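import Mathlib
import Groth.Agent.Lib.Helper7.UnramBC.Main

/-! helper7: descent of the smooth locus along flat base change, pointwise (algebra part):
support and free locus of a base-changed module along a flat ring map, the flat base change of
the first cotangent homology as an isomorphism linear over the tensor product, and
`mem_smoothLocus_of_baseChange_of_flat`. -/

set_option autoImplicit false
set_option linter.style.haveILetI false
set_option linter.unusedVariables false
set_option linter.unusedSectionVars false
universe u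

noncomputable section

namespace Groth.Agent.Helper7.SmoothBC

open TensorProduct

theorem mem_support_baseChange_of_flat {A B M : Type*} [CommRing A] [CommRing B] [Algebra A B]
    [Module.Flat A B] [AddCommGroup M] [Module A M] (q : PrimeSpectrum B)
    (h : q.comap (algebraMap A B) ∈ Module.support A M) :
    q ∈ Module.support B (B ⊗[A] M) := by
  obtain ⟨m, hm⟩ := Module.mem_support_iff_exists_annihilator.mp h
  let N : Submodule A M := Submodule.span A {m}
  haveI : Module.Finite A N := Module.Finite.span_singleton A m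
  have hN : q.comap (algebraMap A B) ∈ Module.support A N := by
    rw [Module.mem_support_iff_exists_annihilator]
    refine ⟨⟨m, Submodule.mem_span_singleton_self m⟩, ?_⟩
    intro a ha
    apply hm
    rw [Submodule.mem_annihilator_span_singleton] at ha ⊢
    have := congrArg Subtype.val ha
    simpa using this
  have h1 : q ∈ Module.support B (B ⊗[A] N) :=
    (UnramBC.mem_support_baseChange_iff q).mpr hN
  have hinj : Function.Injective (LinearMap.baseChange B N.subtype) :=
    Module.Flat.lTensor_preserves_injective_linearMap _ N.injective_subtype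
  exact Module.support_subset_of_injective (LinearMap.baseChange B N.subtype) hinj h1

theorem mem_freeLocus_of_baseChange_of_flat {A B N : Type*} [CommRing A] [CommRing B]
    [Algebra A B] [Module.Flat A B] [AddCommGroup N] [Module A N]
    [Module.FinitePresentation A N] (q : PrimeSpectrum B)
    (h : q ∈ Module.freeLocus B (B ⊗[A] N)) :
    q.comap (algebraMap A B) ∈ Module.freeLocus A N := by
  let p := q.comap (algebraMap A B)
  let Aₚ := Localization.AtPrime p.asIdeal
  let Bq := Localization.AtPrime q.asIdeal
  haveI : q.asIdeal.LiesOver p.asIdeal := ⟨rfl⟩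
  let _ := Localization.AtPrime.algebraOfLiesOver p.asIdeal q.asIdeal
  rw [Module.mem_freeLocus_iff_tensor _ Bq] at h
  rw [Module.mem_freeLocus_iff_tensor _ Aₚ]
  let e : Bq ⊗[Aₚ] (Aₚ ⊗[A] N) ≃ₗ[Bq] Bq ⊗[B] (B ⊗[A] N) :=
    AlgebraTensorModule.cancelBaseChange A Aₚ Bq Bq N ≪≫ₗ
      (AlgebraTensorModule.cancelBaseChange A B Bq Bq N).symm
  haveI : Module.Free Bq (Bq ⊗[Aₚ] (Aₚ ⊗[A] N)) := .of_equiv e.symm
  haveI : Module.Flat Bq (Bq ⊗[Aₚ] (Aₚ ⊗[A] N)) := inferInstance
  haveI : IsLocalHom (algebraMap Aₚ Bq) := by
    rw [RingHom.algebraMap_toAlgebra]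
    exact Localization.isLocalHom_localRingHom p.asIdeal q.asIdeal (algebraMap A B)
      Ideal.LiesOver.over
  haveI : Module.FaithfullyFlat Aₚ Bq := Module.FaithfullyFlat.of_flat_of_isLocalHom
  haveI : Module.Flat Aₚ (Aₚ ⊗[A] N) := Module.Flat.of_flat_tensorProduct _ _ Bq
  exact Module.free_of_flat_of_isLocalRing

attribute [local instance] Algebra.TensorProduct.rightAlgebra in
/-- flat base change of `H¹(L)`, linear over the tensor product -/
def h1Equiv (R S T : Type u) [CommRing R] [CommRing S] [CommRing T]
    [Algebra R S] [Algebra R T] [Module.Flat R S] :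
    (S ⊗[R] T) ⊗[T] Algebra.H1Cotangent R T ≃ₗ[S ⊗[R] T] Algebra.H1Cotangent S (S ⊗[R] T) := by
  let μ : Algebra.H1Cotangent R T →ₗ[T] Algebra.H1Cotangent S (S ⊗[R] T) :=
    Algebra.H1Cotangent.map R S T (S ⊗[R] T)
  let ψ : (S ⊗[R] T) ⊗[T] Algebra.H1Cotangent R T →ₗ[S ⊗[R] T]
      Algebra.H1Cotangent S (S ⊗[R] T) := LinearMap.liftBaseChange (S ⊗[R] T) μ
  let c := Algebra.IsPushout.cancelBaseChange R S T (S ⊗[R] T) (Algebra.H1Cotangent R T)
  let φ := Algebra.tensorH1CotangentOfFlat R T S
  have hψ : ∀ z, ψ z = φ (c z) := by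
    intro z
    induction z with
    | zero => simp
    | add x y hx hy => simp only [map_add, hx, hy]
    | tmul x m =>
      induction x with
      | zero => simp
      | add x y hx hy => simp only [TensorProduct.add_tmul, map_add, hx, hy]
      | tmul a t =>
        have h1 : (a ⊗ₜ[R] t) ⊗ₜ[T] m =
            c.symm (a ⊗ₜ[R] (t • m)) := by
          rw [Algebra.IsPushout.cancelBaseChange_symm_tmul]
          rw [TensorProduct.tmul_smul, TensorProduct.smul_tmul']
          congr 1
          rw [Algebra.smul_def, Algebra.TensorProduct.algebraMap_apply,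
            Algebra.TensorProduct.right_algebraMap_apply, Algebra.TensorProduct.tmul_mul_tmul]
          simp
        rw [h1, LinearEquiv.apply_symm_apply, ← h1]
        rw [Algebra.tensorH1CotangentOfFlat_tmul, LinearMap.liftBaseChange_tmul]
        rw [map_smul]
        have h2 : a ⊗ₜ[R] t = a • (t • (1 : S ⊗[R] T)) := by
          rw [Algebra.smul_def t, Algebra.TensorProduct.right_algebraMap_apply, mul_one,
            TensorProduct.smul_tmul', smul_eq_mul, mul_one]
        rw [h2, smul_assoc, smul_assoc, one_smul]
  exact LinearEquiv.ofBijective ψ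
    ⟨fun x y hxy => c.injective (φ.injective (by rw [← hψ, ← hψ, hxy])),
      fun y => ⟨c.symm (φ.symm y), by rw [hψ]; simp⟩⟩

attribute [local instance] Algebra.TensorProduct.rightAlgebra in
theorem mem_smoothLocus_of_baseChange_of_flat {R S T : Type u} [CommRing R] [CommRing S]
    [CommRing T] [Algebra R S] [Algebra R T] [Module.Flat R S] [Algebra.FinitePresentation R T]
    (q : PrimeSpectrum (S ⊗[R] T)) (h : q ∈ Algebra.smoothLocus S (S ⊗[R] T)) :
    q.comap (Algebra.TensorProduct.includeRight (R := R) (A := S) (B := T)).toRingHom ∈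
      Algebra.smoothLocus R T := by
  rw [Algebra.smoothLocus_eq_compl_support_inter] at h ⊢
  obtain ⟨h1, h2⟩ := h
  haveI : Module.Flat T (S ⊗[R] T) :=
    Module.Flat.isBaseChange R T S (S ⊗[R] T)
      (Algebra.IsPushout.out (R := R) (S := T) (R' := S) (S' := S ⊗[R] T))
  refine ⟨?_, ?_⟩
  · intro hq
    apply h1
    have := mem_support_baseChange_of_flat (A := T) (B := S ⊗[R] T)
      (M := Algebra.H1Cotangent R T) q hq
    rwa [(h1Equiv R S T).support_eq] at this
  · have eΩ := KaehlerDifferential.tensorKaehlerEquiv R S T (S ⊗[R] T)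
    rw [← Module.freeLocus_congr eΩ] at h2
    exact mem_freeLocus_of_baseChange_of_flat (A := T) (B := S ⊗[R] T) (N := Ω[T⁄R]) q h2

end Groth.Agent.Helper7.SmoothBC
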