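import Mathlib
import Groth.Agent.Lib.Helper7.SmoothBC.Alg
import Groth.Agent.Lib.Helper7.UnramBC.Lift

/-! helper7: smoothness at a point (formally smooth stalk map) descends along a base change
that is flat at the image point (EGA IV 17.7.1): chart reduction to the algebra statement of
SmoothBC.Alg, reduction of flatness at a point to a flat base change via the spectrum of the
local ring, and the smooth and etale neighbourhood statements (S2757, S2758). -/

set_option autoImplicit false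
set_option linter.style.haveILetI false
set_option linter.unusedVariables false
set_option linter.unusedSectionVars false
universe u

noncomputable section

namespace Groth.Agent.Helper7.SmoothBC

open TensorProduct AlgebraicGeometry CategoryTheory CategoryTheory.Limits

/-- smooth at a point: the stalk map is formally smooth -/
def SmoothAt {X Y : Scheme.{u}} (f : X ⟶ Y) (x : X) : Prop :=
  (f.stalkMap x).hom.FormallySmooth

set_option backward.isDefEq.respectTransparency false in
theorem smoothAt_comp_left_iff {X' X Y : Scheme.{u}} (ι : X' ⟶ X) [IsOpenImmersion ι] (f : X ⟶ Y)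
    (x : X') : SmoothAt (ι ≫ f) x ↔ SmoothAt f (ι x) := by
  simp only [SmoothAt, Scheme.Hom.stalkMap_comp, CommRingCat.hom_comp,
    RingHom.FormallySmooth.respectsIso.cancel_right_isIso]

set_option backward.isDefEq.respectTransparency false in
theorem smoothAt_comp_right_iff {X Y Y' : Scheme.{u}} (f : X ⟶ Y) (j : Y ⟶ Y') [IsOpenImmersion j]
    (x : X) : SmoothAt (f ≫ j) x ↔ SmoothAt f x := by
  simp only [SmoothAt, Scheme.Hom.stalkMap_comp, CommRingCat.hom_comp,
    RingHom.FormallySmooth.respectsIso.cancel_left_isIso]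

set_option backward.isDefEq.respectTransparency false in
theorem smoothAt_SpecMap_algebraMap_iff {R S : Type u} [CommRing R] [CommRing S] [Algebra R S]
    (x : Spec (CommRingCat.of S)) :
    SmoothAt (Spec.map (CommRingCat.ofHom (algebraMap R S))) x ↔
      Algebra.IsSmoothAt R x.asIdeal := by
  let _ := Localization.AtPrime.algebraOfLiesOver (x.asIdeal.under R) x.asIdeal
  trans Algebra.FormallySmooth (Localization.AtPrime (x.asIdeal.under R))
    (Localization.AtPrime x.asIdeal)
  · rw [← RingHom.formallySmooth_algebraMap]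
    exact RingHom.FormallySmooth.respectsIso.arrow_mk_iso_iff (Scheme.arrowStalkMapSpecIso ..)
  · exact Algebra.FormallySmooth.iff_restrictScalars.symm

theorem smoothAt_iff_mem_smoothLocus {X Y : Scheme.{u}} (f : X ⟶ Y)
    [LocallyOfFinitePresentation f] (x : X) : SmoothAt f x ↔ x ∈ f.smoothLocus := Iff.rfl

theorem exists_open_smooth_iff {X Y : Scheme.{u}} (f : X ⟶ Y)
    [LocallyOfFinitePresentation f] (x : X) :
    (∃ U : X.Opens, x ∈ U ∧ Smooth (U.ι ≫ f)) ↔ SmoothAt f x := by
  constructor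
  · rintro ⟨U, hxU, hU⟩
    have h1 : (U.ι ≫ f).smoothLocus = ⊤ := Scheme.Hom.smoothLocus_eq_top_iff.mpr hU
    have h2 : (⟨x, hxU⟩ : U) ∈ (U.ι ≫ f).smoothLocus := by rw [h1]; trivial
    have h3 : SmoothAt (U.ι ≫ f) ⟨x, hxU⟩ := h2
    rwa [smoothAt_comp_left_iff] at h3
  · intro hx
    refine ⟨f.smoothLocus, hx, ?_⟩
    rw [← Scheme.Hom.smoothLocus_eq_top_iff, ← Scheme.Hom.preimage_smoothLocus_eq]
    ext z
    constructor
    · intro _; trivial
    · intro _; exact z.2

theorem smoothAt_pullback_fst_Spec (R S T : Type u) [CommRing R] [CommRing S] [CommRing T]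
    [Algebra R S] [Algebra R T] [Module.Flat R S] [Algebra.FinitePresentation R T]
    (x : ↥(pullback (Spec.map (CommRingCat.ofHom (algebraMap R S)))
      (Spec.map (CommRingCat.ofHom (algebraMap R T)))))
    (hx : SmoothAt (pullback.fst (Spec.map (CommRingCat.ofHom (algebraMap R S)))
      (Spec.map (CommRingCat.ofHom (algebraMap R T)))) x) :
    SmoothAt (Spec.map (CommRingCat.ofHom (algebraMap R T)))
      ((pullback.snd (Spec.map (CommRingCat.ofHom (algebraMap R S)))
      (Spec.map (CommRingCat.ofHom (algebraMap R T)))) x) := by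
  let e := pullbackSpecIso R S T
  have hxe : e.inv (e.hom x) = x := by
    simp
  have h1 : SmoothAt (e.inv ≫ pullback.fst (Spec.map (CommRingCat.ofHom (algebraMap R S)))
      (Spec.map (CommRingCat.ofHom (algebraMap R T)))) (e.hom x) := by
    rw [smoothAt_comp_left_iff, hxe]
    exact hx
  rw [pullbackSpecIso_inv_fst'] at h1
  rw [smoothAt_SpecMap_algebraMap_iff] at h1 ⊢
  have h2 := mem_smoothLocus_of_baseChange_of_flat (R := R) (S := S) (T := T) (e.hom x) h1
  have h3 : (pullback.snd (Spec.map (CommRingCat.ofHom (algebraMap R S)))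
      (Spec.map (CommRingCat.ofHom (algebraMap R T)))) x =
      PrimeSpectrum.comap (Algebra.TensorProduct.includeRight (R := R) (A := S) (B := T)).toRingHom
        (e.hom x) := by
    have := congrArg (fun φ => φ.base (e.hom x)) (pullbackSpecIso_inv_snd R S T)
    simp only [Scheme.Hom.comp_base, TopCat.comp_app] at this
    rw [hxe] at this
    exact this
  rw [h3]
  exact h2

theorem smoothAt_pullback_fst_affine {Z ZA ZB : Scheme.{u}} (w : ZA ⟶ Z) (u : ZB ⟶ Z)
    [Flat w] [LocallyOfFinitePresentation u] (hZ : ∃ R, Z = Spec R) (hA : ∃ A, ZA = Spec A)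
    (hB : ∃ B, ZB = Spec B) (x : ↥(pullback w u)) (hx : SmoothAt (pullback.fst w u) x) :
    SmoothAt u ((pullback.snd w u) x) := by
  obtain ⟨R, rfl⟩ := hZ
  obtain ⟨A, rfl⟩ := hA
  obtain ⟨B, rfl⟩ := hB
  obtain ⟨ψ, rfl⟩ := Spec.map_surjective w
  obtain ⟨φ, rfl⟩ := Spec.map_surjective u
  have hφ : φ.hom.FinitePresentation :=
    (HasRingHomProperty.Spec_iff (P := @LocallyOfFinitePresentation)).mp inferInstance
  have hψ : ψ.hom.Flat := (HasRingHomProperty.Spec_iff (P := @Flat)).mp inferInstance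
  algebraize [ψ.hom, φ.hom]
  exact smoothAt_pullback_fst_Spec R A B x hx

theorem smoothAt_pullback_fst {X₀ Y₀ Y : Scheme.{u}} (g : Y ⟶ Y₀) (f₀ : X₀ ⟶ Y₀)
    [Flat g] [LocallyOfFinitePresentation f₀] (x : ↥(pullback g f₀))
    (hx : SmoothAt (pullback.fst g f₀) x) : SmoothAt f₀ ((pullback.snd g f₀) x) := by
  obtain ⟨i, y₀', hy₀⟩ := Y₀.affineCover.exists_eq (g ((pullback.fst g f₀) x))
  have hy₀2 : f₀ ((pullback.snd g f₀) x) = Y₀.affineCover.f i y₀' := by
    rw [hy₀]
    have := congrArg (fun φ => φ.base x) (pullback.condition (f := g) (g := f₀))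
    simp only [Scheme.Hom.comp_base, TopCat.comp_app] at this
    exact this.symm
  obtain ⟨a, ha, -⟩ := Scheme.Pullback.exists_preimage_pullback (f := g)
    (g := Y₀.affineCover.f i) ((pullback.fst g f₀) x) y₀' hy₀.symm
  obtain ⟨b, hb, -⟩ := Scheme.Pullback.exists_preimage_pullback (f := f₀)
    (g := Y₀.affineCover.f i) ((pullback.snd g f₀) x) y₀' hy₀2
  obtain ⟨k, a', ha'⟩ := (pullback g (Y₀.affineCover.f i)).affineCover.exists_eq a
  obtain ⟨j, b', hb'⟩ := (pullback f₀ (Y₀.affineCover.f i)).affineCover.exists_eq b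
  let i₁ := (pullback g (Y₀.affineCover.f i)).affineCover.f k ≫ pullback.fst g (Y₀.affineCover.f i)
  let w := (pullback g (Y₀.affineCover.f i)).affineCover.f k ≫ pullback.snd g (Y₀.affineCover.f i)
  let i₂ := (pullback f₀ (Y₀.affineCover.f i)).affineCover.f j ≫
    pullback.fst f₀ (Y₀.affineCover.f i)
  let u := (pullback f₀ (Y₀.affineCover.f i)).affineCover.f j ≫
    pullback.snd f₀ (Y₀.affineCover.f i)
  have e₁ : w ≫ Y₀.affineCover.f i = i₁ ≫ g := by
    simp only [w, i₁, Category.assoc, pullback.condition]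
  have e₂ : u ≫ Y₀.affineCover.f i = i₂ ≫ f₀ := by
    simp only [u, i₂, Category.assoc, pullback.condition]
  let m := pullback.map w u g f₀ i₁ i₂ (Y₀.affineCover.f i) e₁ e₂
  have hxm : x ∈ Set.range m := by
    rw [Scheme.Pullback.range_map]
    refine ⟨⟨a', ?_⟩, ⟨b', ?_⟩⟩
    · simp only [i₁, Scheme.Hom.comp_base, TopCat.comp_app]
      rw [ha', ha]
    · simp only [i₂, Scheme.Hom.comp_base, TopCat.comp_app]
      rw [hb', hb]
  obtain ⟨x'', rfl⟩ := hxm
  haveI : LocallyOfFinitePresentation u := inferInstance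
  haveI : Flat w := inferInstance
  have hfst : m ≫ pullback.fst g f₀ = pullback.fst w u ≫ i₁ := pullback.lift_fst _ _ _
  have hsnd : m ≫ pullback.snd g f₀ = pullback.snd w u ≫ i₂ := pullback.lift_snd _ _ _
  have h1 : SmoothAt (pullback.fst g f₀) (m x'') ↔ SmoothAt (pullback.fst w u) x'' := by
    rw [← smoothAt_comp_left_iff, hfst, smoothAt_comp_right_iff]
  have h2 : (pullback.snd g f₀) (m x'') = i₂ ((pullback.snd w u) x'') := by
    have := congrArg (fun φ => φ.base x'') hsnd
    simp only [Scheme.Hom.comp_base, TopCat.comp_app] at this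
    exact this
  have h3 : SmoothAt f₀ (i₂ ((pullback.snd w u) x'')) ↔ SmoothAt u ((pullback.snd w u) x'') := by
    rw [← smoothAt_comp_left_iff, ← e₂, smoothAt_comp_right_iff]
  rw [h2, h3]
  exact smoothAt_pullback_fst_affine w u ⟨_, rfl⟩ ⟨_, rfl⟩ ⟨_, rfl⟩ x'' (h1.mp hx)

theorem smoothAt_of_isPullback_of_flat {X Y X₀ Y₀ : Scheme.{u}} {g' : X ⟶ X₀} {f : X ⟶ Y}
    {f₀ : X₀ ⟶ Y₀} {g : Y ⟶ Y₀} (h : IsPullback g' f f₀ g) [Flat g]
    [LocallyOfFinitePresentation f₀] (x : X) (hx : SmoothAt f x) : SmoothAt f₀ (g' x) := by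
  let e := h.flip.isoPullback
  have h1 : e.hom ≫ pullback.fst g f₀ = f := h.flip.isoPullback_hom_fst
  have h2 : e.hom ≫ pullback.snd g f₀ = g' := h.flip.isoPullback_hom_snd
  have h3 : SmoothAt (pullback.fst g f₀) (e.hom x) := by
    rw [← smoothAt_comp_left_iff, h1]
    exact hx
  have h4 : g' x = (pullback.snd g f₀) (e.hom x) := by
    have := congrArg (fun φ => φ.base x) h2
    simp only [Scheme.Hom.comp_base, TopCat.comp_app] at this
    exact this.symm
  rw [h4]
  exact smoothAt_pullback_fst g f₀ (e.hom x) h3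

theorem flat_fromSpecStalk (X : Scheme.{u}) (x : X) : Flat (X.fromSpecStalk x) := by
  obtain ⟨_, ⟨U, hU, rfl⟩, hxU, -⟩ :=
    X.isBasis_affineOpens.exists_subset_of_mem_open (Set.mem_univ x) isOpen_univ
  rw [← hU.fromSpecStalk_eq_fromSpecStalk hxU, IsAffineOpen.fromSpecStalk]
  haveI : Flat (Spec.map (X.presheaf.germ U x hxU)) := by
    rw [Flat.SpecMap_iff]
    let _ := X.presheaf.algebra_section_stalk ⟨x, hxU⟩
    have := hU.isLocalization_stalk ⟨x, hxU⟩
    exact IsLocalization.flat (X.presheaf.stalk x) (hU.primeIdealOf ⟨x, hxU⟩).asIdeal.primeCompl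
  infer_instance

theorem smoothAt_of_smooth {X Y : Scheme.{u}} (f : X ⟶ Y) [Smooth f] (x : X) : SmoothAt f x := by
  have h1 := Scheme.Hom.smoothLocus_eq_top f
  have h : x ∈ f.smoothLocus := by rw [h1]; trivial
  exact h

theorem smoothAt_pullback_snd_of_smoothAt {X Y L : Scheme.{u}} (f : X ⟶ Y)
    [LocallyOfFinitePresentation f] (ℓ : L ⟶ Y) (z : ↥(pullback f ℓ))
    (hz : SmoothAt f (pullback.fst f ℓ z)) : SmoothAt (pullback.snd f ℓ) z := by
  let U := f.smoothLocus
  haveI hU : Smooth (U.ι ≫ f) := by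
    rw [← Scheme.Hom.smoothLocus_eq_top_iff, ← Scheme.Hom.preimage_smoothLocus_eq]
    ext z
    constructor
    · intro _; trivial
    · intro _; exact z.2
  let k := pullback.map (U.ι ≫ f) ℓ f ℓ U.ι (𝟙 L) (𝟙 Y) (by simp) (by simp)
  have hzk : z ∈ Set.range k := by
    rw [Scheme.Pullback.range_map]
    refine ⟨?_, ?_⟩
    · simp only [Set.mem_preimage, Scheme.Opens.range_ι]
      exact hz
    · simp
  obtain ⟨z', rfl⟩ := hzk
  have hsnd : k ≫ pullback.snd f ℓ = pullback.snd (U.ι ≫ f) ℓ ≫ 𝟙 L := pullback.lift_snd _ _ _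
  have h1 : SmoothAt (pullback.snd (U.ι ≫ f) ℓ) z' := smoothAt_of_smooth _ z'
  rw [← smoothAt_comp_left_iff, hsnd, Category.comp_id]
  exact h1

theorem smoothAt_of_isPullback_of_flatAt {X Y X₀ Y₀ : Scheme.{u}} {g' : X ⟶ X₀} {f : X ⟶ Y}
    {f₀ : X₀ ⟶ Y₀} {g : Y ⟶ Y₀} (h : IsPullback g' f f₀ g) [LocallyOfFinitePresentation f₀]
    (x : X) (hg : (g.stalkMap (f x)).hom.Flat) (hx : SmoothAt f x) : SmoothAt f₀ (g' x) := by
  haveI : LocallyOfFinitePresentation f :=
    MorphismProperty.of_isPullback (P := @LocallyOfFinitePresentation) h inferInstance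
  let ℓ := Y.fromSpecStalk (f x)
  haveI : Flat (ℓ ≫ g) := by
    have h0 : ℓ ≫ g = Spec.map (g.stalkMap (f x)) ≫ Y₀.fromSpecStalk (g (f x)) :=
      (Scheme.SpecMap_stalkMap_fromSpecStalk g).symm
    rw [h0]
    haveI : Flat (Spec.map (g.stalkMap (f x))) := Flat.SpecMap_iff.mpr hg
    haveI := flat_fromSpecStalk Y₀ (g (f x))
    infer_instance
  have hcl : ℓ (IsLocalRing.closedPoint (Y.presheaf.stalk (f x))) = f x :=
    Scheme.fromSpecStalk_closedPoint
  obtain ⟨z, hz1, hz2⟩ := Scheme.Pullback.exists_preimage_pullback (f := f) (g := ℓ) x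
    (IsLocalRing.closedPoint (Y.presheaf.stalk (f x))) hcl.symm
  have hz : SmoothAt (pullback.snd f ℓ) z :=
    smoothAt_pullback_snd_of_smoothAt f ℓ z (by rw [hz1]; exact hx)
  have hpb : IsPullback (pullback.fst f ℓ ≫ g') (pullback.snd f ℓ) f₀ (ℓ ≫ g) :=
    (IsPullback.of_hasPullback f ℓ).paste_horiz h
  have h5 := smoothAt_of_isPullback_of_flat hpb z hz
  have h6 : (pullback.fst f ℓ ≫ g') z = g' x := by
    simp only [Scheme.Hom.comp_base, TopCat.comp_app]
    rw [hz1]
  rwa [h6] at h5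

theorem smooth_nhd_of_baseChange_flat_at {X Y Y' : Scheme.{u}} (f : X ⟶ Y)
    [LocallyOfFinitePresentation f]
    (g : Y' ⟶ Y) (x' : ↑(pullback f g))
    (hg : (g.stalkMap ((pullback.snd f g).base x')).hom.Flat)
    (h : ∃ U' : (pullback f g).Opens, x' ∈ U' ∧ Smooth (U'.ι ≫ pullback.snd f g)) :
    ∃ U : X.Opens, (pullback.fst f g).base x' ∈ U ∧ Smooth (U.ι ≫ f) := by
  haveI : LocallyOfFinitePresentation (pullback.snd f g) := inferInstance
  have h1 : SmoothAt (pullback.snd f g) x' := (exists_open_smooth_iff _ x').mp h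
  have h2 := smoothAt_of_isPullback_of_flatAt (IsPullback.of_hasPullback f g) x' hg h1
  exact (exists_open_smooth_iff f _).mpr h2

theorem etale_iff_formallyUnramified_and_smooth {X Y : Scheme.{u}} (f : X ⟶ Y) :
    Etale f ↔ FormallyUnramified f ∧ Smooth f := by
  rw [etale_iff, formallyUnramified_iff, smooth_iff]
  grind [RingHom.etale_iff_formallyUnramified_and_smooth]

theorem etale_nhd_of_baseChange_flat_at {X Y Y' : Scheme.{u}} (f : X ⟶ Y)
    [LocallyOfFinitePresentation f]
    (g : Y' ⟶ Y) (x' : ↑(pullback f g))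
    (hg : (g.stalkMap ((pullback.snd f g).base x')).hom.Flat)
    (h : ∃ U' : (pullback f g).Opens, x' ∈ U' ∧ Etale (U'.ι ≫ pullback.snd f g)) :
    ∃ U : X.Opens, (pullback.fst f g).base x' ∈ U ∧ Etale (U.ι ≫ f) := by
  haveI : LocallyOfFinitePresentation (pullback.snd f g) := inferInstance
  obtain ⟨U', hxU', hU'⟩ := h
  have hu : FormallyUnramified (U'.ι ≫ pullback.snd f g) := inferInstance
  have hs : Smooth (U'.ι ≫ pullback.snd f g) := inferInstance
  have h1 : SmoothAt (pullback.snd f g) x' := (exists_open_smooth_iff _ x').mp ⟨U', hxU', hs⟩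
  have h1' : UnramBC.UnramAt (pullback.snd f g) x' :=
    (UnramBC.exists_open_formallyUnramified_iff _ x').mp ⟨U', hxU', hu⟩
  have h2 := smoothAt_of_isPullback_of_flatAt (IsPullback.of_hasPullback f g) x' hg h1
  have h2' := (UnramBC.unramAt_iff_of_isPullback (IsPullback.of_hasPullback f g) x').mp h1'
  let U₂ : X.Opens := ⟨{x | UnramBC.UnramAt f x}, UnramBC.isOpen_unramAt f⟩
  refine ⟨f.smoothLocus ⊓ U₂, ⟨h2, h2'⟩, ?_⟩
  rw [etale_iff_formallyUnramified_and_smooth]
  constructor
  · rw [UnramBC.formallyUnramified_iff_forall_unramAt]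
    intro z
    rw [UnramBC.unramAt_comp_left_iff]
    exact z.2.2
  · rw [← Scheme.Hom.smoothLocus_eq_top_iff, ← Scheme.Hom.preimage_smoothLocus_eq]
    ext z
    exact ⟨fun _ => trivial, fun _ => z.2.1⟩

end Groth.Agent.Helper7.SmoothBC
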