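import Mathlib
import Groth.Agent.Lib.Helper7.SmoothBC.Main

/-! helper7: a reduced scheme locally of finite type over a field is geometrically reduced iff
it has a dense open subscheme smooth over the field (S1549): smooth over a field implies reduced
(via standard etale maps to polynomial rings), descent of the smooth locus from the algebraic
closure, and flat base change of scheme-theoretic density. -/

set_option autoImplicit false
set_option linter.style.haveILetI false
set_option linter.unusedVariables false
set_option linter.unusedSectionVars false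
universe u

noncomputable section

namespace Groth.Agent.Helper7.SmoothBC

open TensorProduct AlgebraicGeometry CategoryTheory CategoryTheory.Limits

theorem isReduced_of_forall_exists_away (A : Type*) [CommRing A]
    (h : ∀ m : Ideal A, m.IsMaximal → ∃ f ∉ m, IsReduced (Localization.Away f)) :
    IsReduced A := by
  constructor
  intro x hx
  by_contra hx0
  let I : Ideal A := LinearMap.ker (LinearMap.toSpanSingleton A A x)
  have hI : I ≠ ⊤ := by
    intro hI
    have h1 : (1 : A) ∈ I := hI ▸ Submodule.mem_top
    have h2 : (1 : A) • x = 0 := by simpa [I] using h1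
    exact hx0 (by simpa using h2)
  obtain ⟨m, hm, hIm⟩ := Ideal.exists_le_maximal I hI
  obtain ⟨f, hfm, hred⟩ := h m hm
  have h1 : IsNilpotent (algebraMap A (Localization.Away f) x) := hx.map _
  have h2 : algebraMap A (Localization.Away f) x = 0 := h1.eq_zero
  rw [IsLocalization.map_eq_zero_iff (Submonoid.powers f)] at h2
  obtain ⟨⟨_, n, rfl⟩, hn⟩ := h2
  have h3 : f ^ n ∈ I := by
    change (LinearMap.toSpanSingleton A A x) (f ^ n) = 0
    simpa using hn
  exact hfm (hm.isPrime.mem_of_pow_mem n (hIm h3))

theorem isReduced_of_etale_domain (P S : Type u) [CommRing P] [IsDomain P] [CommRing S]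
    [Algebra P S] [Algebra.Etale P S] : IsReduced S := by
  let F := FractionRing P
  have hflat : Module.Flat P S := inferInstance
  have hinj : Function.Injective
      (Algebra.TensorProduct.includeRight : S →ₐ[P] F ⊗[P] S) :=
    Algebra.TensorProduct.includeRight_injective (IsFractionRing.injective P F)
  have h1 : Algebra.FormallyUnramified F (F ⊗[P] S) := inferInstance
  have h2 : Algebra.EssFiniteType F (F ⊗[P] S) := inferInstance
  have h3 : IsReduced (F ⊗[P] S) := Algebra.FormallyUnramified.isReduced_of_field F _
  exact isReduced_of_injective _ hinj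

theorem isReduced_of_smooth_field (k A : Type u) [Field k] [CommRing A] [Algebra k A]
    [Algebra.Smooth k A] : IsReduced A := by
  apply isReduced_of_forall_exists_away
  intro m hm
  haveI : Algebra.IsSmoothAt k m := by
    have h1 : Algebra.FormallySmooth A (Localization.AtPrime m) :=
      Algebra.FormallySmooth.of_isLocalization m.primeCompl
    exact Algebra.FormallySmooth.comp k A (Localization.AtPrime m)
  obtain ⟨f, hfm, n, alg, htower, hse⟩ :=
    Algebra.IsSmoothAt.exists_isStandardEtale_mvPolynomial (R := k) (p := m)
  refine ⟨f, hfm, ?_⟩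
  exact isReduced_of_etale_domain (MvPolynomial (Fin n) k) (Localization.Away f)

theorem isReduced_of_smooth_affine (K : Type u) [Field K] {Z : Scheme.{u}} (hZ : ∃ R, Z = Spec R)
    (q : Z ⟶ Spec (CommRingCat.of K)) [Smooth q] : AlgebraicGeometry.IsReduced Z := by
  obtain ⟨R, rfl⟩ := hZ
  obtain ⟨φ, rfl⟩ := Spec.map_surjective q
  have hφ : φ.hom.Smooth := (HasRingHomProperty.Spec_iff (P := @Smooth)).mp inferInstance
  algebraize [φ.hom]
  rw [affine_isReduced_iff]
  exact isReduced_of_smooth_field K R

theorem isReduced_of_smooth_over_field (K : Type u) [Field K] {Z : Scheme.{u}}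
    (q : Z ⟶ Spec (CommRingCat.of K)) [Smooth q] : AlgebraicGeometry.IsReduced Z := by
  haveI : ∀ i, AlgebraicGeometry.IsReduced (Z.affineCover.X i) := fun i =>
    isReduced_of_smooth_affine K (Z := Z.affineCover.X i) ⟨_, rfl⟩ (Z.affineCover.f i ≫ q)
  exact IsReduced.of_openCover (X := Z) Z.affineCover

theorem geometricallyReduced_iff_dense_smooth_open (k : Type u) [Field k] (X : Scheme.{u})
    (p : X ⟶ Spec (CommRingCat.of k)) [AlgebraicGeometry.IsReduced X] [LocallyOfFiniteType p] :
    GeometricallyReduced p ↔ ∃ U : X.Opens, Dense (U : Set X) ∧ Smooth (U.ι ≫ p) := by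
  haveI : LocallyOfFinitePresentation p := inferInstance
  constructor
  · intro hgr
    let K := AlgebraicClosure k
    let y : Spec (CommRingCat.of K) ⟶ Spec (CommRingCat.of k) :=
      Spec.map (CommRingCat.ofHom (algebraMap k K))
    haveI : AlgebraicGeometry.IsReduced (pullback p y) :=
      hgr.geometrically_isReduced y (pullback.fst p y) (pullback.snd p y)
        (IsPullback.of_hasPullback p y)
    haveI : LocallyOfFinitePresentation (pullback.snd p y) := inferInstance
    have hd : Dense ((pullback.snd p y).smoothLocus : Set ↥(pullback p y)) :=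
      Scheme.Hom.dense_smoothLocus_of_perfectField (pullback.snd p y)
    haveI : Flat y := inferInstance
    have hsub : (pullback.fst p y) '' ((pullback.snd p y).smoothLocus : Set ↥(pullback p y)) ⊆
        (p.smoothLocus : Set X) := by
      rintro _ ⟨z, hz, rfl⟩
      exact smoothAt_of_isPullback_of_flat (IsPullback.of_hasPullback p y) z hz
    haveI : Surjective y := ⟨fun b => ⟨default, Subsingleton.elim _ _⟩⟩
    have hsurj : Function.Surjective (pullback.fst p y) :=
      (inferInstance : Surjective (pullback.fst p y)).surj
    refine ⟨p.smoothLocus, ?_, ?_⟩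
    · exact (hsurj.denseRange.dense_image (pullback.fst p y).continuous hd).mono hsub
    · rw [← Scheme.Hom.smoothLocus_eq_top_iff, ← Scheme.Hom.preimage_smoothLocus_eq]
      ext z
      exact ⟨fun _ => trivial, fun _ => z.2⟩
  · rintro ⟨U, hUd, hUs⟩
    refine ⟨fun K _ y Z fst snd hpb => ?_⟩
    haveI : Flat y := inferInstance
    haveI : Flat fst := MorphismProperty.of_isPullback (P := @Flat) hpb.flip inferInstance
    haveI : IsLocallyNoetherian X := LocallyOfFiniteType.isLocallyNoetherian p
    haveI : QuasiCompact U.ι := inferInstance
    haveI : IsDominant U.ι := ⟨by rw [DenseRange, Scheme.Opens.range_ι]; exact hUd⟩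
    haveI : IsSchemeTheoreticallyDominant U.ι := .of_isDominant _
    haveI : IsSchemeTheoreticallyDominant (pullback.snd U.ι fst) := inferInstance
    haveI : QuasiCompact (pullback.snd U.ι fst) := inferInstance
    have hpb2 : IsPullback (pullback.fst U.ι fst) (pullback.snd U.ι fst ≫ snd) (U.ι ≫ p) y :=
      (IsPullback.of_hasPullback U.ι fst).paste_vert hpb
    haveI : Smooth (pullback.snd U.ι fst ≫ snd) :=
      MorphismProperty.of_isPullback (P := @Smooth) hpb2 hUs
    haveI : AlgebraicGeometry.IsReduced (pullback U.ι fst) :=
      isReduced_of_smooth_over_field K (pullback.snd U.ι fst ≫ snd)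
    exact IsSchemeTheoreticallyDominant.isReduced (pullback.snd U.ι fst)

end Groth.Agent.Helper7.SmoothBC
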