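import Mathlib
import Groth.Agent.Lib.Helper7.SmoothBC.Alg
import Groth.Agent.Lib.Helper7.SmoothBC.GeomRed

/-! helper7: dense smooth locus of a finite type algebra over a field versus geometric
reducedness of the local rings at minimal primes. -/

set_option linter.style.haveILetI false
set_option linter.unusedVariables false
set_option linter.unusedSectionVars false

open TensorProduct

namespace Groth.Agent.Helper7.SmoothBC

universe u

/-- The tensor product `K ⊗[k] B` of a localization `B` of `A` is a localization of `K ⊗[k] A`;
in particular it is reduced when `K ⊗[k] A` is. -/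
theorem isReduced_tensor_of_isLocalization (k K A B : Type u) [CommRing k] [CommRing K]
    [Algebra k K] [CommRing A] [Algebra k A] (M : Submonoid A) [CommRing B] [Algebra k B]
    [Algebra A B] [IsScalarTower k A B] [IsLocalization M B] [IsReduced (K ⊗[k] A)] :
    IsReduced (K ⊗[k] B) := by
  letI : Algebra (K ⊗[k] A) (K ⊗[k] B) :=
    (Algebra.TensorProduct.map (AlgHom.id k K) (IsScalarTower.toAlgHom k A B)).toAlgebra
  haveI : IsScalarTower K (K ⊗[k] A) (K ⊗[k] B) :=
    .of_algebraMap_eq <| by intro; simp [RingHom.algebraMap_toAlgebra]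
  haveI := IsLocalization.tensorProduct_tensorProduct_right k K M B
    (by ext; simp [RingHom.algebraMap_toAlgebra])
  exact isReduced_localizationPreserves
    (M.map (Algebra.TensorProduct.includeRight (R := k) (A := K))) (K ⊗[k] B) inferInstance

/-- A minimal prime of a Noetherian ring lies in every dense open subset of the spectrum. -/
theorem mem_of_dense_of_mem_minimalPrimes {A : Type u} [CommRing A] [IsNoetherianRing A]
    (U : TopologicalSpace.Opens (PrimeSpectrum A)) (hU : Dense (U : Set (PrimeSpectrum A)))
    (p : Ideal A) [hpp : p.IsPrime] (hp : p ∈ minimalPrimes A) :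
    (⟨p, hpp⟩ : PrimeSpectrum A) ∈ U := by
  classical
  have hfin : (minimalPrimes A).Finite := minimalPrimes.finite_of_isNoetherianRing A
  let W : Set (PrimeSpectrum A) :=
    (⋃ q ∈ (minimalPrimes A \ {p}), PrimeSpectrum.zeroLocus (q : Set A))ᶜ
  have hWo : IsOpen W := by
    rw [isOpen_compl_iff]
    exact (hfin.subset Set.sdiff_subset).isClosed_biUnion
      (fun q _ => PrimeSpectrum.isClosed_zeroLocus _)
  have hxW : (⟨p, hpp⟩ : PrimeSpectrum A) ∈ W := by
    simp only [W, Set.mem_compl_iff, Set.mem_iUnion, not_exists]
    rintro q ⟨hq, hqp⟩ hx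
    rw [PrimeSpectrum.mem_zeroLocus] at hx
    have hle : q ≤ p := hx
    apply hqp
    exact le_antisymm hle (hp.2 hq.1 hle)
  obtain ⟨y, hyW, hyU⟩ := hU.inter_open_nonempty W hWo ⟨_, hxW⟩
  obtain ⟨q, hq, hqy⟩ := Ideal.exists_minimalPrimes_le (I := ⊥) (J := y.asIdeal) bot_le
  have hqp : q = p := by
    by_contra hne
    apply hyW
    simp only [Set.mem_iUnion]
    exact ⟨q, ⟨hq, hne⟩, by rw [PrimeSpectrum.mem_zeroLocus]; exact hqy⟩
  subst hqp
  have hspec : (⟨q, hpp⟩ : PrimeSpectrum A) ⤳ y := by
    rw [← PrimeSpectrum.le_iff_specializes]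
    exact hqy
  exact hspec.mem_open U.isOpen hyU

/-- If a finite type `k`-algebra is smooth at a prime `p`, then `A_p` is geometrically reduced. -/
theorem isGeometricallyReduced_of_isSmoothAt (k A : Type u) [Field k] [CommRing A] [Algebra k A]
    [Algebra.FiniteType k A] (p : Ideal A) [p.IsPrime] (hs : Algebra.IsSmoothAt k p) :
    Algebra.IsGeometricallyReduced k (Localization.AtPrime p) := by
  haveI : Algebra.FinitePresentation k A := Algebra.FinitePresentation.of_finiteType.mp inferInstance
  obtain ⟨f, hfp, hsm⟩ := Algebra.IsSmoothAt.exists_notMem_smooth k p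
  rw [Algebra.isGeometricallyReduced_field_iff]
  let K := AlgebraicClosure k
  let Ap := Localization.AtPrime p
  haveI : Algebra.Smooth K (K ⊗[k] Localization.Away f) := inferInstance
  haveI : IsReduced (K ⊗[k] Localization.Away f) := isReduced_of_smooth_field K _
  have hunit : IsUnit (algebraMap A Ap f) :=
    IsLocalization.map_units Ap (⟨f, hfp⟩ : p.primeCompl)
  letI algAp : Algebra (Localization.Away f) Ap := (IsLocalization.Away.lift f hunit).toAlgebra
  haveI : IsScalarTower A (Localization.Away f) Ap :=
    IsScalarTower.of_algebraMap_eq' (IsLocalization.Away.lift_comp f hunit).symm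
  have hMN : Submonoid.powers f ≤ p.primeCompl := by
    rintro _ ⟨m, rfl⟩
    exact fun h => hfp (‹p.IsPrime›.mem_of_pow_mem m h)
  haveI := IsLocalization.isLocalization_of_submonoid_le (Localization.Away f) Ap
    (Submonoid.powers f) p.primeCompl hMN
  haveI : IsScalarTower k (Localization.Away f) Ap := IsScalarTower.to₁₃₄ k A _ _
  exact isReduced_tensor_of_isLocalization k K (Localization.Away f) Ap
    (p.primeCompl.map (algebraMap A (Localization.Away f)))

/-- A reduced local ring with a unique prime ideal is a field. -/
theorem isField_of_subsingleton_primeSpectrum (S : Type u) [CommRing S] [IsLocalRing S]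
    [IsReduced S] [Subsingleton (PrimeSpectrum S)] : IsField S := by
  rw [IsLocalRing.isField_iff_maximalIdeal_eq]
  have h : nilradical S = IsLocalRing.maximalIdeal S := by
    rw [nilradical_eq_sInf]
    apply le_antisymm
    · exact sInf_le (inferInstance : (IsLocalRing.maximalIdeal S).IsPrime)
    · apply le_sInf
      intro q hq
      have hq' : q.IsPrime := hq
      have : (⟨q, hq'⟩ : PrimeSpectrum S) = ⟨IsLocalRing.maximalIdeal S, inferInstance⟩ :=
        Subsingleton.elim _ _
      rw [PrimeSpectrum.mk.injEq] at this
      rw [this]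
  rw [← h]
  exact nilradical_eq_zero S

/-- A field essentially of finite type over a perfect field is formally smooth
(version with `IsField`). -/
theorem formallySmooth_of_isField_of_perfectField (K F : Type u) [Field K] [PerfectField K]
    [CommRing F] [Algebra K F] [Algebra.EssFiniteType K F] (h : IsField F) :
    Algebra.FormallySmooth K F := by
  letI : Field F := h.toField
  exact Algebra.FormallySmooth.of_perfectField

/-- If `p` is a minimal prime of a finite type `k`-algebra `A` and `K ⊗[k] A_p` is reduced for
a perfect field extension `K` of `k`, then `A` is smooth over `k` at `p`. -/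
theorem isSmoothAt_of_isReduced_tensor_of_minimal (k K A : Type u) [Field k] [Field K]
    [PerfectField K] [Algebra k K] [CommRing A]
    [Algebra k A] [Algebra.FiniteType k A] (p : Ideal A) [hpp : p.IsPrime]
    (hp : p ∈ minimalPrimes A)
    (hgr : IsReduced (K ⊗[k] Localization.AtPrime p)) :
    Algebra.IsSmoothAt k p := by
  haveI : Algebra.FinitePresentation k A := Algebra.FinitePresentation.of_finiteType.mp inferInstance
  letI algDD' : Algebra (K ⊗[k] A) (K ⊗[k] Localization.AtPrime p) :=
    (Algebra.TensorProduct.map (AlgHom.id k K)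
      (IsScalarTower.toAlgHom k A (Localization.AtPrime p))).toAlgebra
  haveI : IsScalarTower K (K ⊗[k] A) (K ⊗[k] Localization.AtPrime p) :=
    .of_algebraMap_eq <| by intro; simp [RingHom.algebraMap_toAlgebra]
  have hcomm : (algebraMap (K ⊗[k] A) (K ⊗[k] Localization.AtPrime p)).comp
      (Algebra.TensorProduct.includeRight (R := k) (A := K) (B := A)).toRingHom =
      (Algebra.TensorProduct.includeRight (R := k) (A := K)
        (B := Localization.AtPrime p)).toRingHom.comp
        (algebraMap A (Localization.AtPrime p)) := by
    ext; simp [RingHom.algebraMap_toAlgebra]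
  haveI hloc : IsLocalization
      (p.primeCompl.map (Algebra.TensorProduct.includeRight (R := k) (A := K) (B := A)))
      (K ⊗[k] Localization.AtPrime p) :=
    IsLocalization.tensorProduct_tensorProduct_right k K p.primeCompl (Localization.AtPrime p) hcomm
  -- `D'` is nontrivial
  haveI : Nontrivial (K ⊗[k] Localization.AtPrime p) := by
    have hinj : Function.Injective
        (Algebra.TensorProduct.includeRight :
          Localization.AtPrime p →ₐ[k] K ⊗[k] Localization.AtPrime p) :=
      Algebra.TensorProduct.includeRight_injective (algebraMap k K).injective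
    exact hinj.nontrivial
  -- pick a minimal prime of `D'`
  obtain ⟨m, hm⟩ := Ideal.exists_maximal (K ⊗[k] Localization.AtPrime p)
  obtain ⟨P', hP'min, -⟩ := Ideal.exists_minimalPrimes_le (I := ⊥) (J := m) bot_le
  haveI hP'prime : P'.IsPrime := hP'min.1.1
  haveI : IsReduced (Localization.AtPrime P') :=
    isReduced_localizationPreserves P'.primeCompl (Localization.AtPrime P') inferInstance
  haveI : Subsingleton (PrimeSpectrum (Localization.AtPrime P')) :=
    IsLocalization.subsingleton_primeSpectrum_of_mem_minimalPrimes P' hP'min
      (Localization.AtPrime P')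
  have hF : IsField (Localization.AtPrime P') :=
    isField_of_subsingleton_primeSpectrum (Localization.AtPrime P')
  -- essentially of finite type
  haveI : Algebra.EssFiniteType (K ⊗[k] A) (K ⊗[k] Localization.AtPrime p) :=
    Algebra.EssFiniteType.of_isLocalization _
      (p.primeCompl.map (Algebra.TensorProduct.includeRight (R := k) (A := K) (B := A)))
  haveI : Algebra.EssFiniteType K (K ⊗[k] Localization.AtPrime p) :=
    Algebra.EssFiniteType.comp K (K ⊗[k] A) _
  haveI : Algebra.EssFiniteType (K ⊗[k] Localization.AtPrime p) (Localization.AtPrime P') :=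
    Algebra.EssFiniteType.of_isLocalization _ P'.primeCompl
  haveI : Algebra.EssFiniteType K (Localization.AtPrime P') :=
    Algebra.EssFiniteType.comp K (K ⊗[k] Localization.AtPrime p) _
  have hFs : Algebra.FormallySmooth K (Localization.AtPrime P') :=
    formallySmooth_of_isField_of_perfectField K _ hF
  -- `F` is the localization of `D` at the contraction `P` of `P'`
  haveI hPprime : (P'.comap (algebraMap (K ⊗[k] A) (K ⊗[k] Localization.AtPrime p))).IsPrime :=
    Ideal.IsPrime.comap _
  haveI hlocF : IsLocalization.AtPrime (Localization.AtPrime P')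
      (P'.comap (algebraMap (K ⊗[k] A) (K ⊗[k] Localization.AtPrime p))) :=
    IsLocalization.isLocalization_isLocalization_atPrime_isLocalization
      (p.primeCompl.map (Algebra.TensorProduct.includeRight (R := k) (A := K) (B := A)))
      (Localization.AtPrime P') P'
  let e : Localization.AtPrime
      (P'.comap (algebraMap (K ⊗[k] A) (K ⊗[k] Localization.AtPrime p))) ≃ₐ[K ⊗[k] A]
      Localization.AtPrime P' :=
    IsLocalization.algEquiv
      (P'.comap (algebraMap (K ⊗[k] A) (K ⊗[k] Localization.AtPrime p))).primeCompl _ _
  have hPs : (⟨P'.comap (algebraMap (K ⊗[k] A) (K ⊗[k] Localization.AtPrime p)), hPprime⟩ :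
      PrimeSpectrum (K ⊗[k] A)) ∈ Algebra.smoothLocus K (K ⊗[k] A) := by
    change Algebra.FormallySmooth K (Localization.AtPrime
      (P'.comap (algebraMap (K ⊗[k] A) (K ⊗[k] Localization.AtPrime p))))
    exact Algebra.FormallySmooth.of_equiv (R := K) (A := Localization.AtPrime P')
      (e.restrictScalars K).symm
  have key := mem_smoothLocus_of_baseChange_of_flat (R := k) (S := K) (T := A) _ hPs
  -- the contraction of `P` to `A` is `p`
  have hcontr : (P'.comap (algebraMap (K ⊗[k] A) (K ⊗[k] Localization.AtPrime p))).comap
      (Algebra.TensorProduct.includeRight (R := k) (A := K) (B := A)).toRingHom = p := by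
    haveI : (P'.comap (Algebra.TensorProduct.includeRight (R := k) (A := K)
        (B := Localization.AtPrime p)).toRingHom).IsPrime := Ideal.IsPrime.comap _
    have h1 : (P'.comap (algebraMap (K ⊗[k] A) (K ⊗[k] Localization.AtPrime p))).comap
        (Algebra.TensorProduct.includeRight (R := k) (A := K) (B := A)).toRingHom
        = (P'.comap (Algebra.TensorProduct.includeRight (R := k) (A := K)
        (B := Localization.AtPrime p)).toRingHom).comap (algebraMap A (Localization.AtPrime p)) := by
      rw [Ideal.comap_comap, Ideal.comap_comap, hcomm]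
    rw [h1]
    have hle : (P'.comap (Algebra.TensorProduct.includeRight (R := k) (A := K)
        (B := Localization.AtPrime p)).toRingHom).comap (algebraMap A (Localization.AtPrime p))
        ≤ p := by
      have hq : (P'.comap (Algebra.TensorProduct.includeRight (R := k) (A := K)
          (B := Localization.AtPrime p)).toRingHom) ≤
          IsLocalRing.maximalIdeal (Localization.AtPrime p) :=
        IsLocalRing.le_maximalIdeal (Ideal.IsPrime.ne_top')
      calc _ ≤ (IsLocalRing.maximalIdeal (Localization.AtPrime p)).comap
              (algebraMap A (Localization.AtPrime p)) := Ideal.comap_mono hq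
        _ = p := IsLocalization.AtPrime.under_maximalIdeal (Localization.AtPrime p) p
    exact le_antisymm hle (hp.2 ⟨Ideal.IsPrime.comap _, bot_le⟩ hle)
  have key' : Algebra.IsSmoothAt k (PrimeSpectrum.comap
      (Algebra.TensorProduct.includeRight (R := k) (A := K) (B := A)).toRingHom
        ⟨P'.comap (algebraMap (K ⊗[k] A) (K ⊗[k] Localization.AtPrime p)), hPprime⟩).asIdeal := key
  have hh : (PrimeSpectrum.comap
      (Algebra.TensorProduct.includeRight (R := k) (A := K) (B := A)).toRingHom
        ⟨P'.comap (algebraMap (K ⊗[k] A) (K ⊗[k] Localization.AtPrime p)), hPprime⟩).asIdeal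
        = p := hcontr
  simpa only [hh] using key'

/-- If `p` is a minimal prime of a finite type `k`-algebra `A` and `A_p` is geometrically reduced,
then `A` is smooth over `k` at `p`. -/
theorem isSmoothAt_of_isGeometricallyReduced_of_minimal (k A : Type u) [Field k] [CommRing A]
    [Algebra k A] [Algebra.FiniteType k A] (p : Ideal A) [hpp : p.IsPrime]
    (hp : p ∈ minimalPrimes A)
    (hgr : Algebra.IsGeometricallyReduced k (Localization.AtPrime p)) :
    Algebra.IsSmoothAt k p := by
  rw [Algebra.isGeometricallyReduced_field_iff] at hgr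
  exact isSmoothAt_of_isReduced_tensor_of_minimal k (AlgebraicClosure k) A p hp hgr

/-- **Dense smooth locus versus geometric reducedness at minimal primes.** -/
theorem dense_smooth_iff_minimal_geomReduced (k A : Type u) [Field k] [CommRing A] [Algebra k A]
    [Algebra.FiniteType k A] :
    (∃ U : TopologicalSpace.Opens (PrimeSpectrum A), Dense (U : Set (PrimeSpectrum A)) ∧
        ∀ p ∈ U, Algebra.IsSmoothAt k p.asIdeal) ↔
      ∀ (p : Ideal A) [p.IsPrime], p ∈ minimalPrimes A →
        Algebra.IsGeometricallyReduced k (Localization.AtPrime p) := by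
  haveI : Algebra.FinitePresentation k A := Algebra.FinitePresentation.of_finiteType.mp inferInstance
  haveI : IsNoetherianRing A := Algebra.FiniteType.isNoetherianRing k A
  constructor
  · rintro ⟨U, hU, hsm⟩ p hpp hp
    have hpU := mem_of_dense_of_mem_minimalPrimes U hU p hp
    exact isGeometricallyReduced_of_isSmoothAt k A p (hsm _ hpU)
  · intro h
    refine ⟨⟨Algebra.smoothLocus k A, Algebra.isOpen_smoothLocus⟩, ?_, ?_⟩
    · rw [dense_iff_inter_open]
      rintro V hV ⟨y, hy⟩
      obtain ⟨q, hq, hqy⟩ := Ideal.exists_minimalPrimes_le (I := ⊥) (J := y.asIdeal) bot_le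
      haveI hqp : q.IsPrime := hq.1.1
      have hspec : (⟨q, hqp⟩ : PrimeSpectrum A) ⤳ y := by
        rw [← PrimeSpectrum.le_iff_specializes]
        exact hqy
      refine ⟨⟨q, hqp⟩, hspec.mem_open hV hy, ?_⟩
      exact isSmoothAt_of_isGeometricallyReduced_of_minimal k A q hq (h q hq)
    · intro p hp
      exact hp

end Groth.Agent.Helper7.SmoothBC
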