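import Mathlib
import Groth.Agent.Lib.Helper7.SmoothBC.Main
import Groth.Agent.Lib.Helper7.SmoothBC.GeomRed

/-! helper7: density of the smooth locus of a dominant morphism of integral schemes whose
generic fibre is geometrically reduced. -/

set_option linter.style.haveILetI false
set_option linter.unusedVariables false
set_option linter.unusedSectionVars false

open CategoryTheory CategoryTheory.Limits AlgebraicGeometry TopologicalSpace

namespace Groth.Agent.Helper7.SmoothBC

universe u

/-- Any ring map out of the stalk at the generic point of an integral scheme is flat. -/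
theorem flat_of_stalk_genericPoint {Y : Scheme.{u}} [IsIntegral Y] (y : Y)
    (hy : y = genericPoint Y) {R : CommRingCat.{u}} (φ : Y.presheaf.stalk y ⟶ R) :
    φ.hom.Flat := by
  subst hy
  letI : Field (Y.presheaf.stalk (genericPoint Y)) := inferInstanceAs (Field Y.functionField)
  algebraize [φ.hom]
  show Module.Flat _ _
  infer_instance

/-- A dominant morphism of integral schemes maps the generic point to the generic point. -/
theorem map_genericPoint_of_isDominant {X Y : Scheme.{u}} [IsIntegral X] [IsIntegral Y]
    (f : X ⟶ Y) [IsDominant f] : f (genericPoint X) = genericPoint Y := by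
  apply ((genericPoint_spec Y).eq _).symm
  have := (genericPoint_spec X).image f.continuous
  rwa [Set.image_univ, f.denseRange.closure_range] at this

theorem dense_smoothLocus_of_genericFibre (X Y : Scheme.{u}) [IsIntegral X] [IsIntegral Y]
    (f : X ⟶ Y) [IsDominant f] [LocallyOfFinitePresentation f]
    (hsep : GeometricallyReduced (f.fiberToSpecResidueField (f.base (genericPoint X)))) :
    Dense (f.smoothLocus : Set X) := by
  have hη : f (genericPoint X) = genericPoint Y := map_genericPoint_of_isDominant f
  haveI : LocallyOfFinitePresentation (f.fiberToSpecResidueField (f (genericPoint X))) :=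
    MorphismProperty.pullback_snd _ _ inferInstance
  haveI : IsReduced (f.fiber (f (genericPoint X))) :=
    hsep.geometrically_isReduced (𝟙 _) (𝟙 _) _ (IsPullback.id_horiz _)
  obtain ⟨U, hUd, hUs⟩ := (geometricallyReduced_iff_dense_smooth_open
    (Y.residueField (f (genericPoint X))) (f.fiber (f (genericPoint X)))
    (f.fiberToSpecResidueField (f (genericPoint X)))).mp hsep
  have hξ' : f.fiberι (f (genericPoint X)) (f.asFiber (genericPoint X)) = genericPoint X :=
    f.fiberι_asFiber _
  have hgen : ∀ z : f.fiber (f (genericPoint X)), f.asFiber (genericPoint X) ⤳ z := by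
    intro z
    rw [← (f.fiberι (f (genericPoint X))).isEmbedding.isInducing.specializes_iff, hξ']
    exact (genericPoint_spec X).specializes trivial
  haveI : Nonempty (f.fiber (f (genericPoint X))) := ⟨f.asFiber (genericPoint X)⟩
  have hξU : f.asFiber (genericPoint X) ∈ U := by
    obtain ⟨z, hz⟩ := hUd.nonempty
    exact (hgen z).mem_open U.isOpen hz
  have hsm : SmoothAt (f.fiberToSpecResidueField (f (genericPoint X)))
      (f.asFiber (genericPoint X)) :=
    (exists_open_smooth_iff _ _).mp ⟨U, hξU, hUs⟩
  have hflat : ((Y.fromSpecResidueField (f (genericPoint X))).stalkMap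
      ((f.fiberToSpecResidueField (f (genericPoint X))) (f.asFiber (genericPoint X)))).hom.Flat := by
    apply flat_of_stalk_genericPoint
    rw [Scheme.fromSpecResidueField_apply]
    exact hη
  have h1 := smoothAt_of_isPullback_of_flatAt
    (IsPullback.of_hasPullback f (Y.fromSpecResidueField (f (genericPoint X))))
    (f.asFiber (genericPoint X)) hflat hsm
  have hξs : genericPoint X ∈ f.smoothLocus := by
    rw [← hξ']
    exact h1
  exact f.smoothLocus.isOpen.dense ⟨_, hξs⟩

end Groth.Agent.Helper7.SmoothBC
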